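import Cfsg.Agent.Lib.Fischer.Relations.Involutions.Action
import Cfsg.Agent.Lib.Fischer.Relations.Centralizer.Triples
import Cfsg.Agent.S0111

/-!
# Involutions in type M(22)

Every involution is conjugate to one centralizing a member by the transfer lemma, and is then a product of at
most three commuting members.
-/

set_option autoImplicit false
set_option linter.unusedSectionVars false

namespace Cfsg.Lib.Fischer.Relations

open Module Cfsg Cfsg.Lib.Fischer Cfsg.Lib.Fischer.RadicalAbelian Cfsg.Lib.Linear.Herm Cfsg.Agent.S1631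
open Cfsg.Lib.Linear

variable {G : Type*} [Group G] [Finite G] {D : Set G}

/-- Distinct pairwise commuting members of a given number with a given product. -/
def IsProd (D : Set G) (m : ℕ) (x : G) : Prop :=
  ∃ l : List G, l.Nodup ∧ l.length = m ∧ (∀ a ∈ l, a ∈ D) ∧ (∀ a ∈ l, ∀ b ∈ l, Commute a b) ∧ l.prod = x

theorem prod_sq (hD : Trans D) : ∀ {l : List G}, (∀ a ∈ l, a ∈ D) → (∀ a ∈ l, ∀ b ∈ l, Commute a b) →
    l.prod * l.prod = 1
  | [], _, _ => by simp
  | a :: t, hl, hc => by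
    have h : Commute t.prod a := Commute.list_prod_left _ _ fun b hb => hc b (by simp [hb]) a (by simp)
    rw [List.prod_cons, h.mul_mul_mul_comm, mul_self hD (hl a (by simp)), one_mul,
      prod_sq hD (fun b hb => hl b (by simp [hb])) fun b hb c hc' => hc b (by simp [hb]) c (by simp [hc'])]

theorem IsProd.conj (hD : Trans D) {m : ℕ} {x : G} (h : IsProd D m x) (g : G) :
    IsProd D m (g * x * g⁻¹) := by
  obtain ⟨l, hn, hlen, hl, hc, rfl⟩ := h
  refine ⟨l.map fun a => g * a * g⁻¹, hn.map (MulAut.conj g).injective, by simpa using hlen, ?_, ?_,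
    prod_conj_list hD g l⟩
  · simp only [List.mem_map]
    rintro _ ⟨a, ha, rfl⟩
    exact hD.conj g a (hl a ha)
  · simp only [List.mem_map]
    rintro _ ⟨a, ha, rfl⟩ _ ⟨b, hb, rfl⟩
    exact (Commute.conj_iff g).2 (hc a ha b hb)

variable {F : Type} [Field F] [Fintype F] {hF : Fintype.card F = 2 ^ 2} {d : G}

namespace Coord

variable (C : Coord D d hF)
include C

theorem noRel : NoRel D 5 := by
  obtain ⟨b, hb⟩ : (perp D d).Nonempty := by
    obtain ⟨s, hs, -⟩ := C.exists_point (pv_ne_zero (Or.inl one_ne_zero)) (pv_orth hF (1 : F) 0 0 1 0 0)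
    exact ⟨s, hs⟩
  exact noRel_five C.trans (fourField hF) (hB_isSymm hF 6) (hB_nondegenerate hF 6)
    (by rw [finrank_fin_fun]; norm_num) C.mem C.U ⟨d, C.mem, b, hb.1, hb.2.1.symm⟩

/-- The number of members in a short product is determined by it. -/
theorem prod_length {m m' : ℕ} {x : G} (hm : m ≤ 3) (hm' : m' ≤ 3) (h : IsProd D m x) (h' : IsProd D m' x) :
    m = m' := by
  by_contra hne
  obtain ⟨l, hn, hlen, hl, hc, e⟩ := h
  obtain ⟨l', hn', hlen', hl', hc', e'⟩ := h'
  have hiff := mem_iff_of_prod_eq C.trans C.noRel hn hn' hl hl' hc hc' (hlen ▸ hm) (by omega) (e.trans e'.symm)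
  have := ((List.perm_ext_iff_of_nodup hn hn').2 hiff).length_eq
  omega

theorem prod_ne_one {m : ℕ} {x : G} (hm1 : 1 ≤ m) (hm : m ≤ 3) (h : IsProd D m x) : x ≠ 1 := by
  rintro rfl
  obtain ⟨l, hn, hlen, hl, hc, e⟩ := h
  have := C.noRel l hn hl hc (fun y _ => e ▸ Commute.one_left y) (by omega)
  simp [this] at hlen
  omega

theorem orderOf_prod {m : ℕ} {x : G} (hm1 : 1 ≤ m) (hm : m ≤ 3) (h : IsProd D m x) : orderOf x = 2 := by
  refine orderOf_eq_prime ?_ (C.prod_ne_one hm1 hm h)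
  obtain ⟨l, -, -, hl, hc, rfl⟩ := h
  rw [pow_two, prod_sq C.trans hl hc]

/-- Members on chosen points. -/
theorem exists_points : ∃ M : (Fin 6 → F) → G, ∀ v, v ≠ 0 → hB hF 6 v v = 0 →
    M v ∈ perp D d ∧ ∃ k : F, k ≠ 0 ∧ C.U.c (M v) = k • v := by
  classical
  refine ⟨fun v => if h : v ≠ 0 ∧ hB hF 6 v v = 0 then (C.exists_point h.1 h.2).choose else 1,
    fun v h0 h1 => ?_⟩
  simp only [dif_pos (And.intro h0 h1)]
  exact (C.exists_point h0 h1).choose_spec

set_option maxHeartbeats 800000 in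
/-- An involution centralizing `d` is a short product. -/
theorem involution_isProd {x : G} (hx : Commute x d) (hx2 : x * x = 1) :
    ∃ m, m ≤ 3 ∧ IsProd D m x := by
  classical
  have hD := C.trans
  have hK := fourField hF
  have hS := hB_isSymm hF 6
  have hB' := hB_nondegenerate hF 6
  obtain ⟨n, hns, hnn, hxn⟩ := C.exists_nilpotent hx hx2
  obtain ⟨M, hM⟩ := C.exists_points
  -- the members of a decomposition
  have key : ∀ vs : List (Fin 6 → F), (∀ v ∈ vs, v ≠ 0) → (∀ v ∈ vs, ∀ w ∈ vs, hB hF 6 v w = 0) →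
      vs.Pairwise (fun v w => ∀ k : F, w ≠ k • v ∧ v ≠ k • w) → (∀ y, Linear.act (hB hF 6) vs y = n y) →
      (∀ a ∈ vs.map M, a ∈ perp D d) ∧ (vs.map M).Nodup ∧
      (∀ a ∈ vs.map M, ∀ b ∈ vs.map M, Commute a b) ∧ (x = (vs.map M).prod ∨ x = d * (vs.map M).prod) := by
    intro vs h0 horth hpw hact
    have hl : ∀ a ∈ vs.map M, a ∈ perp D d := by
      simp only [List.mem_map]
      rintro _ ⟨v, hv, rfl⟩
      exact (hM v (h0 v hv) (horth v hv v hv)).1
    have hc : ∀ a ∈ vs.map M, ∀ b ∈ vs.map M, Commute a b := by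
      simp only [List.mem_map]
      rintro _ ⟨v, hv, rfl⟩ _ ⟨w, hw, rfl⟩
      obtain ⟨h1, k, -, e1⟩ := hM v (h0 v hv) (horth v hv v hv)
      obtain ⟨h2, j, -, e2⟩ := hM w (h0 w hw) (horth w hw w hw)
      refine (C.U.comm _ h1 _ h2).2 ?_
      rw [e1, e2, map_smul, LinearMap.map_smulₛₗ, LinearMap.smul_apply, horth v hv w hw, smul_zero, smul_zero]
    refine ⟨hl, ?_, hc, ?_⟩
    · rw [List.Nodup, List.pairwise_map]
      refine hpw.imp_of_mem fun {v w} hv hw h e => ?_
      obtain ⟨-, k, hk, e1⟩ := hM v (h0 v hv) (horth v hv v hv)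
      obtain ⟨-, j, -, e2⟩ := hM w (h0 w hw) (horth w hw w hw)
      rw [e, e2] at e1
      refine (h (k⁻¹ * j)).2 ?_
      rw [mul_smul, e1, smul_smul, inv_mul_cancel₀ hk, one_smul]
    have hf : List.Forall₂ (fun s v => ∃ k : F, k ≠ 0 ∧ C.U.c s = k • v) (vs.map M) vs := by
      rw [List.forall₂_map_left_iff, List.forall₂_same]
      exact fun v hv => (hM v (h0 v hv) (horth v hv v hv)).2
    have hact' : ∀ y, Linear.act (hB hF 6) ((vs.map M).map C.U.c) y = n y := fun y => by
      rw [act_scale hf, hact]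
    have hPd : Commute (vs.map M).prod d := Commute.list_prod_left _ _ fun a ha => (hl a ha).2.2.symm
    have hfix : ∀ s ∈ perp D d, ∃ a : F,
        C.U.c ((vs.map M).prod * x * s * ((vs.map M).prod * x)⁻¹) = a • C.U.c s := fun s hs => by
      obtain ⟨j, -, e1⟩ := hxn s hs
      obtain ⟨k, -, e2⟩ := C.list_act hl hc _ (C.conj_mem hx hs)
      refine ⟨k * j, ?_⟩
      rw [show (vs.map M).prod * x * s * ((vs.map M).prod * x)⁻¹ =
        (vs.map M).prod * (x * s * x⁻¹) * (vs.map M).prod⁻¹ by group, e2, hact', e1, map_smul, map_add,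
        show n (n (C.U.c s)) = 0 from LinearMap.congr_fun hnn _, add_zero, ← smul_add, smul_smul, add_assoc,
        Linear.add_self hK hS hB', add_zero]
    rcases C.eq_or_eq (hPd.mul_left hx) hfix with h | h
    · exact Or.inl ((inv_eq_of_mul_eq_one_right hx2).symm.trans (eq_inv_of_mul_eq_one_left h).symm)
    · refine Or.inr ?_
      calc x = d * (d * x) := by rw [← mul_assoc, mul_self hD C.mem, one_mul]
        _ = d * (vs.map M).prod := by
          rw [show d * x = (vs.map M).prod by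
            conv_lhs => rw [← h]
            rw [mul_assoc, hx2, mul_one]]
  obtain ⟨vs, hlen, h0, horth, htri, hact⟩ := exists_decomp hns hnn
  obtain ⟨hl, hnd, hc, hxl⟩ := key vs h0 horth htri.not_smul hact
  have hlD : ∀ a ∈ vs.map M, a ∈ D := fun a ha => (hl a ha).1
  rcases hxl with hxl | hxl
  · exact ⟨_, hlen, vs.map M, hnd, List.length_map M, hlD, hc, hxl.symm⟩
  by_cases h2 : vs.length ≤ 2
  · refine ⟨vs.length + 1, by omega, d :: vs.map M, List.nodup_cons.2 ⟨fun h => (hl d h).2.1 rfl, hnd⟩,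
      by simp, ?_, ?_, by rw [List.prod_cons, hxl]⟩
    · intro a ha
      rcases List.mem_cons.1 ha with rfl | ha
      exacts [C.mem, hlD a ha]
    · intro a ha b hb
      rcases List.mem_cons.1 ha with ea | ha <;> rcases List.mem_cons.1 hb with eb | hb
      · rw [ea, eb]
      · rw [ea]; exact (hl b hb).2.2
      · rw [eb]; exact (hl a ha).2.2.symm
      · exact hc a ha b hb
  obtain ⟨u, v, w, rfl⟩ : ∃ u v w, vs = [u, v, w] := by
    match vs, hlen, h2 with
    | [], _, h => simp at h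
    | [_], _, h => simp at h
    | [_, _], _, h => simp at h
    | [u, v, w], _, _ => exact ⟨u, v, w, rfl⟩
    | _ :: _ :: _ :: _ :: _, h, _ => simp only [List.length_cons] at h; omega
  -- the other bases of the plane
  obtain ⟨ω, hω⟩ := Linear.exists_omega hK hS hB'
  have hω0 : ω ≠ 0 := fun e => hω (by rw [e, map_zero])
  have hω1 : ω ≠ 1 := fun e => hω (by rw [e, map_one])
  have hsω1 : frob hF ω ≠ 1 := fun e => hω1 ((frob hF).injective (by rw [e, map_one]))
  obtain ⟨P, hP⟩ : ∃ P : F → F → F → (Fin 6 → F), ∀ a b c, P a b c = a • u + b • v + c • w :=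
    ⟨_, fun _ _ _ => rfl⟩
  have hPorth : ∀ a b c a' b' c', hB hF 6 (P a b c) (P a' b' c') = 0 := fun a b c a' b' c' => by
    simp [hP, horth u (by simp) u (by simp), horth u (by simp) v (by simp), horth u (by simp) w (by simp),
      horth v (by simp) u (by simp), horth v (by simp) v (by simp), horth v (by simp) w (by simp),
      horth w (by simp) u (by simp), horth w (by simp) v (by simp), horth w (by simp) w (by simp)]
  have hcoord : ∀ a b c a' b' c' k : F, P a b c = k • P a' b' c' → a = k * a' ∧ b = k * b' ∧ c = k * c' := by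
    intro a b c a' b' c' k h
    obtain ⟨h1, h2, h3⟩ := htri.indep (a := a - k * a') (b := b - k * b') (c := c - k * c') (by
      rw [hP, hP] at h
      linear_combination (norm := module) h)
    exact ⟨sub_eq_zero.1 h1, sub_eq_zero.1 h2, sub_eq_zero.1 h3⟩
  have hne : ∀ b c : F, P 1 b c ≠ 0 := fun b c h => one_ne_zero (α := F) (by
    simpa using (hcoord 1 b c 0 0 0 0 (by rw [zero_smul, h])).1)
  have hinj : ∀ b c b' c' : F, M (P 1 b c) = M (P 1 b' c') → b = b' ∧ c = c' := fun b c b' c' h => by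
    obtain ⟨-, k, hk, e1⟩ := hM _ (hne b c) (hPorth _ _ _ _ _ _)
    obtain ⟨-, j, -, e2⟩ := hM _ (hne b' c') (hPorth _ _ _ _ _ _)
    rw [h, e2] at e1
    obtain ⟨h1, h2, h3⟩ := hcoord 1 b c 1 b' c' (k⁻¹ * j) (by
      rw [mul_smul, e1, smul_smul, inv_mul_cancel₀ hk, one_smul])
    rw [mul_one] at h1
    rw [← h1, one_mul] at h2 h3
    exact ⟨h2, h3⟩
  have hnot : ∀ b c : F, b ≠ 0 → M (P 1 b c) ∉ [u, v, w].map M := by
    intro b c hb h
    obtain ⟨z, hz, ez⟩ := List.mem_map.1 h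
    obtain ⟨-, k, hk, e1⟩ := hM _ (hne b c) (hPorth _ _ _ _ _ _)
    obtain ⟨-, j, -, e2⟩ := hM z (h0 z hz) (horth z hz z hz)
    rw [← ez, e2] at e1
    have e : P 1 b c = (k⁻¹ * j) • z := by rw [mul_smul, e1, smul_smul, inv_mul_cancel₀ hk, one_smul]
    simp only [List.mem_cons, List.not_mem_nil, or_false] at hz
    rcases hz with rfl | rfl | rfl
    · exact hb (by simpa using (hcoord 1 b c 1 0 0 (k⁻¹ * j) (by rw [e, hP 1 0 0]; simp)).2.1)
    · exact one_ne_zero (α := F) (by simpa using (hcoord 1 b c 0 1 0 (k⁻¹ * j) (by rw [e, hP 0 1 0]; simp)).1)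
    · exact one_ne_zero (α := F) (by simpa using (hcoord 1 b c 0 0 1 (k⁻¹ * j) (by rw [e, hP 0 0 1]; simp)).1)
  have hbase : ∀ t : F, t ≠ 0 →
      ([P 1 1 t, P 1 ω (t * frob hF ω), P 1 (frob hF ω) (t * ω)].map M).Nodup ∧
      (∀ a ∈ [P 1 1 t, P 1 ω (t * frob hF ω), P 1 (frob hF ω) (t * ω)].map M, a ∈ D) ∧
      (∀ a ∈ [P 1 1 t, P 1 ω (t * frob hF ω), P 1 (frob hF ω) (t * ω)].map M,
        ∀ b ∈ [P 1 1 t, P 1 ω (t * frob hF ω), P 1 (frob hF ω) (t * ω)].map M, Commute a b) ∧
      (x = ([P 1 1 t, P 1 ω (t * frob hF ω), P 1 (frob hF ω) (t * ω)].map M).prod ∨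
        x = d * ([P 1 1 t, P 1 ω (t * frob hF ω), P 1 (frob hF ω) (t * ω)].map M).prod) := by
    intro t ht
    obtain ⟨h1, h2, h3, h4⟩ := key [P 1 1 t, P 1 ω (t * frob hF ω), P 1 (frob hF ω) (t * ω)]
      (by simp [hne]) (by simp [hPorth]) (by
        have hp : ∀ b c b' c' : F, b ≠ b' → ∀ k : F, P 1 b' c' ≠ k • P 1 b c ∧ P 1 b c ≠ k • P 1 b' c' := by
          intro b c b' c' hb k
          constructor <;> intro e <;> obtain ⟨e1, e2, -⟩ := hcoord _ _ _ _ _ _ _ e <;>
            rw [mul_one] at e1 <;> rw [← e1, one_mul] at e2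
          exacts [hb e2.symm, hb e2]
        simp only [List.pairwise_cons, List.mem_cons, List.not_mem_nil, or_false, List.Pairwise.nil, and_true,
          forall_eq_or_imp, forall_eq, IsEmpty.forall_iff, implies_true]
        exact ⟨⟨hp _ _ _ _ hω1.symm, hp _ _ _ _ hsω1.symm⟩, hp _ _ _ _ hω.symm⟩) (fun y => by
        rw [← hact]
        have h := Linear.hyperoval_act hK hS hB' (w := u) (z := v) (u := w) hω ht y
        simp only [Linear.act_cons, show Linear.act (hB hF 6) ([] : List (Fin 6 → F)) y = 0 from rfl, hP,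
          one_smul, add_zero] at h ⊢
        refine (Linear.eq_of_add_eq_zero hK hS hB' ?_).symm
        rw [← h]
        abel)
    exact ⟨h2, fun a ha => (h1 a ha).1, h3, h4⟩
  obtain ⟨n1, l1, c1, p1⟩ := hbase 1 one_ne_zero
  obtain ⟨n2, l2, c2, p2⟩ := hbase ω hω0
  rcases p1 with p1 | p1
  · exact ⟨3, le_rfl, _, n1, rfl, l1, c1, p1.symm⟩
  rcases p2 with p2 | p2
  · exact ⟨3, le_rfl, _, n2, rfl, l2, c2, p2.symm⟩
  exfalso
  obtain ⟨e, f, g, -, -, hall⟩ := three_exactly_two hD C.prim C.cen C.sep C.nbr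
    (a := M u) (b := M v) (c := M w) hnd hlD hc
  have hq1 := mul_left_cancel (p1.symm.trans hxl)
  have hq2 := mul_left_cancel (p2.symm.trans hxl)
  have i1 := (hall _ n1 rfl l1 c1 hq1).resolve_left fun h =>
    hnot 1 1 one_ne_zero ((h _).1 (List.mem_cons_self ..))
  have i2 := (hall _ n2 rfl l2 c2 hq2).resolve_left fun h =>
    hnot 1 ω one_ne_zero ((h _).1 (List.mem_cons_self ..))
  have hm := (i2 _).2 ((i1 (M (P 1 1 1))).1 (List.mem_cons_self ..))
  simp only [List.map_cons, List.map_nil, List.mem_cons, List.not_mem_nil, or_false] at hm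
  rcases hm with h | h | h
  · exact hω1 (hinj _ _ _ _ h).2.symm
  · exact hω1 (hinj _ _ _ _ h).1.symm
  · exact hsω1 (hinj _ _ _ _ h).1.symm

end Coord

/-- No normal subgroup has index two. -/
theorem Coord.no_index_two (C : Coord D d hF) {K : Subgroup G} (hn : K.Normal) (hK : K.index = 2) : False := by
  have hd : d ∈ K := by
    obtain ⟨h1, h2⟩ := perp_perfect C.fis C.nbr C.mem C.prim C.cen C.sep
    rw [← h2] at h1
    refine Subgroup.commutator_le.2 (fun a _ b _ => ?_) h1
    simp only [commutatorElement_def, Subgroup.mul_mem_iff_of_index_two hK, inv_mem_iff]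
    tauto
  have htop : K = ⊤ := top_le_iff.1 (C.trans.gen ▸ (Subgroup.closure_le K).2 fun a ha => by
    obtain ⟨g, rfl⟩ := C.trans.trans d C.mem a ha
    exact hn.conj_mem d hd g)
  simp [htop] at hK

/-- Every involution is conjugate into the centralizer of `d`. -/
theorem Coord.exists_conj_commute (C : Coord D d hF) (hG : Nat.card G = 2 ^ 17 * 3 ^ 9 * 5 ^ 2 * 7 * 11 * 13)
    (hDc : D.ncard = 3510) {x : G} (hx : orderOf x = 2) : ∃ g : G, Commute (g * x * g⁻¹) d := by
  classical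
  have : Fact (Nat.Prime 2) := ⟨Nat.prime_two⟩
  have h1 := card_conj_orbit (K := (⊤ : Subgroup G)) C.mem (fun k _ y hy => C.trans.conj k y hy)
    fun y hy => by obtain ⟨g, hg⟩ := C.trans.trans d C.mem y hy; exact ⟨g, Subgroup.mem_top g, hg⟩
  rw [top_inf_eq, Subgroup.card_top, Nat.card_coe_set_eq, hDc, hG] at h1
  have hv : ∀ k m : ℕ, ¬ 2 ∣ m → (2 ^ k * m).factorization 2 = k := fun k m hm => by
    rw [Nat.factorization_mul (by positivity) (fun e => hm (by simp [e])), Finsupp.add_apply,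
      Nat.Prime.factorization_pow Nat.prime_two, Finsupp.single_eq_same,
      Nat.factorization_eq_zero_of_not_dvd hm, add_zero]
  have hcd : Nat.card ↥(Subgroup.centralizer ({d} : Set G)) = 2 ^ 16 * 280665 := by omega
  obtain ⟨S⟩ := (inferInstance : Nonempty (Sylow 2 ↥(Subgroup.centralizer ({d} : Set G))))
  obtain ⟨P, hP⟩ := (S.2.map (Subgroup.centralizer ({d} : Set G)).subtype).exists_le_sylow
  obtain ⟨Q, hQ⟩ : ∃ Q, Q = (S : Subgroup ↥(Subgroup.centralizer ({d} : Set G))).map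
      (Subgroup.centralizer ({d} : Set G)).subtype := ⟨_, rfl⟩
  have hQc : Nat.card Q = 2 ^ 16 := by
    rw [hQ, Subgroup.card_map_of_injective Subtype.val_injective, Sylow.card_eq_multiplicity, hcd,
      hv 16 280665 (by norm_num)]
  have hPc : Nat.card ↥(P : Subgroup G) = 2 ^ 17 := by
    rw [Sylow.card_eq_multiplicity, hG,
      show 2 ^ 17 * 3 ^ 9 * 5 ^ 2 * 7 * 11 * 13 = 2 ^ 17 * 492567075 by norm_num, hv 17 _ (by norm_num)]
  have hQP : Q ≤ (P : Subgroup G) := hQ ▸ hP
  have hidx : Q.relIndex (P : Subgroup G) = 2 := by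
    have h := Subgroup.card_mul_index (Q.subgroupOf (P : Subgroup G))
    rw [Nat.card_congr (Subgroup.subgroupOfEquivOfLe hQP).toEquiv, hQc, hPc] at h
    rw [Subgroup.relIndex]
    omega
  have hQd : ∀ q ∈ Q, Commute q d := fun q hq => by
    rw [hQ, Subgroup.mem_map] at hq
    obtain ⟨y, -, rfl⟩ := hq
    exact Subgroup.mem_centralizer_singleton_iff.1 y.2
  have hz : IsPGroup 2 (Subgroup.zpowers x) := IsPGroup.of_card (n := 1) (by rw [Nat.card_zpowers, hx, pow_one])
  obtain ⟨P₀, hP₀⟩ := hz.exists_le_sylow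
  obtain ⟨g, hg⟩ := MulAction.exists_smul_eq G P₀ P
  obtain ⟨u, hu⟩ : ∃ u, u = g * x * g⁻¹ := ⟨_, rfl⟩
  have huP : u ∈ (P : Subgroup G) := by
    rw [← hg, Sylow.coe_subgroup_smul, hu]
    exact ⟨x, hP₀ (Subgroup.mem_zpowers x), by simp [MulAut.conj_apply]⟩
  by_cases huQ : u ∈ Q
  · exact ⟨g, hu ▸ hQd u huQ⟩
  have huo : orderOf u = 2 := by
    rw [hu, ← hx]
    exact orderOf_injective (MulAut.conj g).toMonoidHom (MulAut.conj g).injective x
  rcases Cfsg.Agent.S0111.result P Q hQP hidx u huo huP huQ with ⟨K, hn, hK, -⟩ | ⟨h, hh⟩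
  · exact (C.no_index_two hn hK).elim
  · refine ⟨h * g, ?_⟩
    rw [show h * g * x * (h * g)⁻¹ = h * (g * x * g⁻¹) * h⁻¹ by group, ← hu]
    exact hQd _ hh

end Cfsg.Lib.Fischer.Relations
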