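import Cfsg.Agent.Lib.Fischer.Relations.Involutions.Decomp
import Cfsg.Agent.Lib.Fischer.Relations.Centralizer.Main

/-!
# Involutions centralizing a member in type M(22)

A member of a neighbourhood acts on the points as a transvection, and an involution centralizing `d` acts as
a product of at most three independent commuting ones.
-/

set_option autoImplicit false
set_option linter.unusedSectionVars false

namespace Cfsg.Lib.Fischer.Relations

open Module Cfsg Cfsg.Lib.Fischer Cfsg.Lib.Fischer.RadicalAbelian Cfsg.Lib.Linear.Herm Cfsg.Agent.S1631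
open Cfsg.Lib.Linear

variable {G : Type*} [Group G] [Finite G] {D : Set G}
  {F : Type} [Field F] [Fintype F] {hF : Fintype.card F = 2 ^ 2} {d : G}

namespace Coord

variable (C : Coord D d hF)
include C

/-- A member acts as its transvection. -/
theorem member_act {a s : G} (ha : a ∈ perp D d) (hs : s ∈ perp D d) :
    ∃ k : F, k ≠ 0 ∧ C.U.c (a * s * a⁻¹) = k • (C.U.c s + hB hF 6 (C.U.c a) (C.U.c s) • C.U.c a) := by
  have hD := C.trans
  have hK := fourField hF
  have hS := hB_isSymm hF 6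
  have hB' := hB_nondegenerate hF 6
  have h5 : 5 ≤ finrank F (Fin 6 → F) := by rw [finrank_fin_fun]; norm_num
  by_cases hc : Commute a s
  · refine ⟨1, one_ne_zero, ?_⟩
    rw [(C.U.comm a ha s hs).1 hc, zero_smul, add_zero, one_smul, hc.eq, mul_inv_cancel_right]
  have hr := C.conj_mem ha.2.2.symm hs
  have hne : hB hF 6 (C.U.c s) (C.U.c a) ≠ 0 := fun e => hc ((C.U.comm s hs a ha).2 e).symm
  have h := Linear.hyperbolic_third hK hS hB' h5 (C.U.iso s hs) (C.U.iso a ha) hne (C.U.iso _ hr)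
    fun t ht ht0 hst hat => by
      obtain ⟨e, he, j, hj, hce⟩ := C.exists_point ht0 ht
      have h1 : Commute e s := ((C.U.comm s hs e he).2 (by rw [hce, map_smul, hst, smul_zero])).symm
      have h2 : Commute e a := ((C.U.comm a ha e he).2 (by rw [hce, map_smul, hat, smul_zero])).symm
      have h3 := (C.U.comm _ hr e he).1 ((h2.mul_right h1).mul_right h2.inv_right).symm
      rw [hce, map_smul, smul_eq_mul] at h3
      exact (mul_eq_zero.1 h3).resolve_left hj
  rcases h with ⟨k, hk⟩ | ⟨k, hk⟩ | ⟨k, hk⟩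
  · exact absurd (mul_inv_eq_iff_eq_mul.1 (C.U.inj s hs _ hr k hk).symm) hc
  · have e := C.U.inj a ha _ hr k hk
    refine absurd ?_ hc
    rw [eq_comm, mul_inv_eq_iff_eq_mul] at e
    rw [mul_left_cancel e]
  · refine ⟨k, fun e => C.U.ne _ hr (by rw [hk, e, zero_smul]), ?_⟩
    rw [hk]
    congr 3
    refine inv_eq_of_mul_eq_one_right ?_
    rw [← hS.eq (C.U.c s) (C.U.c a), hK.sq, ← mul_assoc]
    exact hK.cube _ hne

/-- A product of commuting members acts by its displacement. -/
theorem list_act : ∀ {l : List G}, (∀ a ∈ l, a ∈ perp D d) → (∀ a ∈ l, ∀ b ∈ l, Commute a b) →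
    ∀ s ∈ perp D d, ∃ k : F, k ≠ 0 ∧
      C.U.c (l.prod * s * l.prod⁻¹) = k • (C.U.c s + Linear.act (hB hF 6) (l.map C.U.c) (C.U.c s))
  | [], _, _, s, _ => ⟨1, one_ne_zero, by simp [Linear.act_apply]⟩
  | a :: t, hl, hc, s, hs => by
    have hP : Commute t.prod d :=
      Commute.list_prod_left _ _ fun b hb => (hl b (by simp [hb])).2.2.symm
    obtain ⟨k, hk, e⟩ := list_act (l := t) (fun b hb => hl b (by simp [hb]))
      (fun b hb b' hb' => hc b (by simp [hb]) b' (by simp [hb'])) s hs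
    obtain ⟨j, hj, e'⟩ := C.member_act (hl a (by simp)) (C.conj_mem hP hs)
    refine ⟨j * k, mul_ne_zero hj hk, ?_⟩
    have h0 : hB hF 6 (C.U.c a) (Linear.act (hB hF 6) (t.map C.U.c) (C.U.c s)) = 0 := by
      rw [Linear.act_apply, map_list_sum, List.sum_eq_zero]
      intro z hz
      simp only [List.map_map, List.mem_map] at hz
      obtain ⟨b, hb, rfl⟩ := hz
      show hB hF 6 (C.U.c a) (hB hF 6 (C.U.c b) _ • C.U.c b) = 0
      rw [map_smul, (C.U.comm a (hl a (by simp)) b (hl b (by simp [hb]))).1 (hc a (by simp) b (by simp [hb])),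
        smul_zero]
    rw [List.prod_cons, show a * t.prod * s * (a * t.prod)⁻¹ = a * (t.prod * s * t.prod⁻¹) * a⁻¹ by group, e', e,
      List.map_cons, Linear.act_cons, map_smul, map_add, h0, add_zero, smul_eq_mul, mul_smul, mul_smul,
      ← smul_add]
    congr 2
    abel

/-- An involution centralizing `d` acts as one plus a self-adjoint map of square zero. -/
theorem exists_nilpotent {x : G} (hx : Commute x d) (hx2 : x * x = 1) :
    ∃ n : Module.End F (Fin 6 → F), UnitarySix.SelfAdj hF n ∧ n * n = 0 ∧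
      ∀ s ∈ perp D d, ∃ k : F, k ≠ 0 ∧ C.U.c (x * s * x⁻¹) = k • (C.U.c s + n (C.U.c s)) := by
  have hK := fourField hF
  obtain ⟨A, τ, hA⟩ := C.semi x hx
  have hτ := C.tau_id hx hA
  obtain ⟨f, hf⟩ : ∃ f : Module.End F (Fin 6 → F), f = Matrix.toLin' A.1.1 := ⟨_, rfl⟩
  have hiso : ∀ u v, hB hF 6 (f u) (f v) = hB hF 6 u v := fun u v => by
    rw [hB_apply, hB_apply, hf, Matrix.toLin'_apply, Matrix.toLin'_apply]
    exact mem_GU.1 A.2 v u
  have hAf : ∀ s ∈ perp D d, ∃ a : F, a ≠ 0 ∧ C.U.c (x * s * x⁻¹) = a • f (C.U.c s) := fun s hs => by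
    obtain ⟨a, ha, e⟩ := hA s hs
    refine ⟨a, ha, ?_⟩
    rw [e, show τ ∘ C.U.c s = C.U.c s from funext fun i => hτ _, hf, Matrix.toLin'_apply]
  have hff : ∀ s ∈ perp D d, ∃ a : F, a ≠ 0 ∧ f (f (C.U.c s)) = a • C.U.c s := fun s hs => by
    obtain ⟨a, ha, e⟩ := hAf s hs
    obtain ⟨b, hb, e'⟩ := hAf _ (C.conj_mem hx hs)
    refine ⟨(b * a)⁻¹, inv_ne_zero (mul_ne_zero hb ha), ?_⟩
    rw [show x * (x * s * x⁻¹) * x⁻¹ = x * x * s * (x * x)⁻¹ by group, hx2, one_mul, inv_one, mul_one, e,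
      map_smul, smul_smul] at e'
    conv_rhs => rw [e', smul_smul, inv_mul_cancel₀ (mul_ne_zero hb ha), one_smul]
  obtain ⟨c, hc⟩ := exists_scalar_of_iso (hF := hF) (f * f) fun v hv hv0 => by
    obtain ⟨s, hs, k, hk, e⟩ := C.exists_point hv0 hv
    obtain ⟨a, -, ea⟩ := hff s hs
    refine ⟨a, ?_⟩
    rw [e, map_smul, map_smul, smul_comm] at ea
    exact smul_right_injective _ hk ea
  have hc0 : c ≠ 0 := fun e => by
    obtain ⟨s, hs, -⟩ := C.exists_point (pv_ne_zero (Or.inl one_ne_zero)) (pv_orth hF (1 : F) 0 0 1 0 0)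
    obtain ⟨a, ha, ea⟩ := hff s hs
    rw [show f (f (C.U.c s)) = c • C.U.c s from hc _, e, zero_smul] at ea
    exact C.U.ne s hs ((smul_eq_zero.1 ea.symm).resolve_left ha)
  obtain ⟨L, hL⟩ : ∃ L : Module.End F (Fin 6 → F), L = c • f := ⟨_, rfl⟩
  have hLL : ∀ u, L (L u) = u := fun u => by
    have := hc u
    rw [Module.End.mul_apply] at this
    rw [hL, LinearMap.smul_apply, LinearMap.smul_apply, map_smul, this, smul_smul, smul_smul, hK.cube c hc0,
      one_smul]
  have hLiso : ∀ u v, hB hF 6 (L u) (L v) = hB hF 6 u v := fun u v => by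
    rw [hL, LinearMap.smul_apply, LinearMap.smul_apply, UnitarySix.h_smul_left, UnitarySix.h_smul_right,
      hiso, ← mul_assoc, hK.sq, hK.cube c hc0, one_mul]
  refine ⟨L + 1, fun u v => ?_, LinearMap.ext fun u => ?_, fun s hs => ?_⟩
  · have h : hB hF 6 (L u) v = hB hF 6 u (L v) := by rw [← hLiso (L u) v, hLL]
    simp only [LinearMap.add_apply, Module.End.one_apply, map_add, h]
  · simp only [Module.End.mul_apply, LinearMap.add_apply, Module.End.one_apply, map_add, hLL,
      LinearMap.zero_apply]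
    linear_combination (norm := module) UnitarySix.add_self' hF (L u + u)
  · obtain ⟨a, ha, e⟩ := hAf s hs
    refine ⟨a * c⁻¹, mul_ne_zero ha (inv_ne_zero hc0), ?_⟩
    rw [LinearMap.add_apply, Module.End.one_apply, add_left_comm, UnitarySix.add_self' hF, add_zero, hL,
      LinearMap.smul_apply, smul_smul, inv_mul_cancel_right₀ hc0, e]

end Coord

end Cfsg.Lib.Fischer.Relations
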