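import Cfsg.Agent.Lib.Linear.UnitarySix.InvolLift
import Cfsg.Agent.Lib.Fischer.Relations.Centralizer.Points

/-!
# Self-adjoint maps of square zero as sums of transvection terms

A self-adjoint map of square zero on the six-dimensional unitary space is the displacement of at most three
independent pairwise perpendicular isotropic vectors.
-/

set_option autoImplicit false
set_option linter.unusedSectionVars false

namespace Cfsg.Lib.Fischer.Relations

open Module Cfsg Cfsg.Lib.Fischer Cfsg.Lib.Fischer.RadicalAbelian Cfsg.Lib.Linear.Herm Cfsg.Agent.S1631 Cfsg.Lib.Linear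
  Cfsg.Lib.Linear.UnitarySix

variable {F : Type} [Field F] [Fintype F] {hF : Fintype.card F = 2 ^ 2}

/-- Each vector of the list has a partner perpendicular to the later ones. -/
def Tri (hF : Fintype.card F = 2 ^ 2) : List (Fin 6 → F) → Prop
  | [] => True
  | v :: vs => (∃ z, hB hF 6 z v = 1 ∧ ∀ w ∈ vs, hB hF 6 z w = 0) ∧ Tri hF vs

theorem Tri.ne_zero : ∀ {vs : List (Fin 6 → F)}, Tri hF vs → ∀ v ∈ vs, v ≠ 0
  | [], _, v, hv => by simp at hv
  | w :: ws, ⟨⟨z, hz, _⟩, h⟩, v, hv => by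
    rcases List.mem_cons.1 hv with rfl | hv
    · intro e
      simp [e] at hz
    · exact h.ne_zero v hv

theorem Tri.not_smul : ∀ {vs : List (Fin 6 → F)}, Tri hF vs →
    vs.Pairwise fun v w => ∀ k : F, w ≠ k • v ∧ v ≠ k • w
  | [], _ => List.Pairwise.nil
  | v :: vs, ⟨⟨z, hz, hzw⟩, h⟩ => List.Pairwise.cons (fun w hw k => ⟨fun e => by
      have h0 := hzw w hw
      rw [e, map_smul, hz, smul_eq_mul, mul_one] at h0
      exact h.ne_zero w hw (by rw [e, h0, zero_smul]), fun e => by
      rw [e, map_smul, hzw w hw, smul_zero] at hz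
      exact zero_ne_one hz⟩) h.not_smul

theorem Tri.indep {u v w : Fin 6 → F} (h : Tri hF [u, v, w]) {a b c : F}
    (e : a • u + b • v + c • w = 0) : a = 0 ∧ b = 0 ∧ c = 0 := by
  obtain ⟨⟨z, hz, hz'⟩, ⟨⟨z', hz2, hz2'⟩, h3⟩⟩ := h
  have e1 := congrArg (hB hF 6 z) e
  simp only [map_add, map_smul, smul_eq_mul, hz, hz' v (by simp), hz' w (by simp), mul_one, mul_zero, add_zero,
    map_zero] at e1
  rw [e1, zero_smul, zero_add] at e
  have e2 := congrArg (hB hF 6 z') e
  simp only [map_add, map_smul, smul_eq_mul, hz2, hz2' w (by simp), mul_one, mul_zero, add_zero,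
    map_zero] at e2
  rw [e2, zero_smul, zero_add] at e
  exact ⟨e1, e2, (smul_eq_zero.1 e).resolve_right (Tri.ne_zero h3 w (by simp))⟩

theorem exists_decomp_aux : ∀ (k : ℕ) (n : Module.End F (Fin 6 → F)), SelfAdj hF n → n * n = 0 →
    finrank F (LinearMap.range n) ≤ k →
    ∃ vs : List (Fin 6 → F), vs.length ≤ k ∧ (∀ v ∈ vs, v ∈ LinearMap.range n) ∧ Tri hF vs ∧
      ∀ x, Linear.act (hB hF 6) vs x = n x := by
  intro k
  induction k with
  | zero =>
    intro n _ _ hk
    have hn0 : n = 0 := LinearMap.range_eq_bot.1 (Submodule.finrank_eq_zero.1 (by omega))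
    exact ⟨[], le_rfl, by simp, trivial, fun x => by simp [hn0, Linear.act_apply]⟩
  | succ k ih =>
    intro n hs hn hk
    by_cases hn0 : n = 0
    · exact ⟨[], Nat.zero_le _, by simp, trivial, fun x => by simp [hn0, Linear.act_apply]⟩
    obtain ⟨x, hx⟩ : ∃ x, n x ≠ 0 := by
      by_contra h
      push Not at h
      exact hn0 (LinearMap.ext h)
    obtain ⟨y, hy⟩ : ∃ y, hB hF 6 (n x) y ≠ 0 := by
      by_contra h
      push Not at h
      exact hx ((hB_nondegenerate hF 6).1 _ h)
    obtain ⟨z, -, hz⟩ := exists_self_ne_zero hF hs (W := ⊤) trivial trivial hy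
    obtain ⟨v, hvdef⟩ : ∃ v, v = n z := ⟨_, rfl⟩
    rw [← hvdef] at hz
    have hnv : n v = 0 := hvdef ▸ LinearMap.congr_fun hn z
    have hv : hB hF 6 v v = 0 := by
      conv_lhs => arg 1; rw [hvdef]
      rw [hs, hnv, map_zero]
    have hNn : N hF v * n = 0 := LinearMap.ext fun a => by
      simp [Module.End.mul_apply, ← hs v a, hnv]
    have hnN : n * N hF v = 0 := LinearMap.ext fun a => by simp [Module.End.mul_apply, hnv]
    obtain ⟨n', hn'def⟩ : ∃ n', n' = n + N hF v := ⟨_, rfl⟩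
    have hs' : SelfAdj hF n' := fun a b => by
      rw [hn'def, LinearMap.add_apply, LinearMap.add_apply, h_add_left, map_add, hs a b,
        selfAdj_N hF v a b]
    have hn' : n' * n' = 0 := by
      rw [hn'def, add_mul, mul_add, mul_add, hn, hnN, hNn, N_sq hF hv, add_zero, add_zero]
    have hn'z : n' z = 0 := by
      rw [hn'def, LinearMap.add_apply, N_apply, hz, one_smul, ← hvdef, UnitarySix.add_self' hF]
    have hker' : LinearMap.ker n ≤ LinearMap.ker n' := fun a ha => by
      rw [LinearMap.mem_ker] at ha ⊢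
      rw [hn'def, LinearMap.add_apply, ha, N_apply, hvdef, hs, ha, map_zero, zero_smul, add_zero]
    have hlt : LinearMap.ker n < LinearMap.ker n' := lt_of_le_of_ne hker' fun e => by
      have hz' : z ∈ LinearMap.ker n' := hn'z
      rw [← e, LinearMap.mem_ker, ← hvdef] at hz'
      simp [hz'] at hz
    have h1 := Submodule.finrank_lt_finrank_of_lt hlt
    have h2 := LinearMap.finrank_range_add_finrank_ker n
    have h3 := LinearMap.finrank_range_add_finrank_ker n'
    obtain ⟨vs, hlen, hmem, htri, hact⟩ := ih n' hs' hn' (by omega)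
    refine ⟨v :: vs, by simp; omega, ?_, ⟨⟨z, ?_, fun w hw => ?_⟩, htri⟩, fun a => ?_⟩
    · intro w hw
      rcases List.mem_cons.1 hw with rfl | hw
      · exact hvdef ▸ LinearMap.mem_range_self n z
      · obtain ⟨a, rfl⟩ := hmem w hw
        rw [hn'def, LinearMap.add_apply, N_apply]
        exact add_mem (LinearMap.mem_range_self n a)
          (Submodule.smul_mem _ _ (hvdef ▸ LinearMap.mem_range_self n z))
    · rw [← h_conj hF, hz, map_one]
    · obtain ⟨a, rfl⟩ := hmem w hw
      rw [← hs', hn'z, map_zero, LinearMap.zero_apply]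
    · rw [Linear.act_cons, hact, hn'def, LinearMap.add_apply, N_apply,
        add_left_comm, UnitarySix.add_self' hF, add_zero]

/-- A self-adjoint map of square zero as a displacement. -/
theorem exists_decomp {n : Module.End F (Fin 6 → F)} (hs : SelfAdj hF n) (hn : n * n = 0) :
    ∃ vs : List (Fin 6 → F), vs.length ≤ 3 ∧ (∀ v ∈ vs, v ≠ 0) ∧ (∀ v ∈ vs, ∀ w ∈ vs, hB hF 6 v w = 0) ∧
      Tri hF vs ∧ ∀ x, Linear.act (hB hF 6) vs x = n x := by
  have h1 : LinearMap.range n ≤ LinearMap.ker n := by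
    rintro _ ⟨a, rfl⟩
    exact LinearMap.congr_fun hn a
  have h2 := Submodule.finrank_mono h1
  have h3 := LinearMap.finrank_range_add_finrank_ker n
  rw [finrank_fin_fun] at h3
  obtain ⟨vs, hlen, hmem, htri, hact⟩ := exists_decomp_aux 3 n hs hn (by omega)
  refine ⟨vs, hlen, htri.ne_zero, fun v hv w hw => ?_, htri, hact⟩
  obtain ⟨a, rfl⟩ := hmem v hv
  obtain ⟨b, rfl⟩ := hmem w hw
  rw [hs, LinearMap.mem_ker.1 (h1 (LinearMap.mem_range_self n b)), map_zero]

/-- A linear map with every isotropic vector as an eigenvector is a scalar. -/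
theorem exists_scalar_of_iso (f : Module.End F (Fin 6 → F))
    (hf : ∀ v, hB hF 6 v v = 0 → v ≠ 0 → ∃ a : F, f v = a • v) : ∃ c : F, ∀ x, f x = c • x := by
  have hK := fourField hF
  have hS := hB_isSymm hF 6
  have hB' := hB_nondegenerate hF 6
  have h5 : 5 ≤ finrank F (Fin 6 → F) := by rw [finrank_fin_fun]; norm_num
  obtain ⟨p, hp, hp0⟩ : ∃ p : Fin 6 → F, hB hF 6 p p = 0 ∧ p ≠ 0 := by
    refine ⟨pv 1 0 0, ?_, pv_ne_zero (Or.inl one_ne_zero)⟩
    exact pv_orth hF _ _ _ _ _ _
  obtain ⟨p', hp', hpp', hind⟩ := exists_partner hF hp0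
  obtain ⟨c, hc⟩ := hf p hp hp0
  have hp0' : p' ≠ 0 := hind.ne_zero 1
  -- perpendicular independent isotropic vectors share the eigenvalue
  have key : ∀ u r : Fin 6 → F, hB hF 6 u u = 0 → hB hF 6 r r = 0 → hB hF 6 u r = 0 → u ≠ 0 → r ≠ 0 →
      f u = c • u → f r = c • r := by
    intro u r hu hr hur hu0 hr0 hcu
    by_cases hdep : ∃ k : F, r = k • u
    · obtain ⟨k, rfl⟩ := hdep
      rw [map_smul, hcu, smul_comm]
    push Not at hdep
    obtain ⟨m, hm⟩ := hf r hr hr0
    have hsum0 : u + r ≠ 0 := fun e => hdep (-1) (by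
      rw [neg_one_smul]; exact eq_neg_of_add_eq_zero_right e)
    obtain ⟨j, hj⟩ := hf (u + r) (by simp [hu, hr, hur, hS.isRefl _ _ hur]) hsum0
    rw [map_add, hcu, hm, smul_add] at hj
    have e : (m - j) • r = (j - c) • u := by
      linear_combination (norm := module) hj
    rcases eq_or_ne (m - j) 0 with h0 | h0
    · rw [h0, zero_smul] at e
      have := (smul_eq_zero.1 e.symm).resolve_right hu0
      rw [hm, sub_eq_zero.1 h0, sub_eq_zero.1 this]
    · exact absurd (by rw [mul_smul, ← e, smul_smul, inv_mul_cancel₀ h0, one_smul])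
        (hdep ((m - j)⁻¹ * (j - c)))
  have hc' : f p' = c • p' := key p p' hp hp' hpp' hp0 hp0' hc
  obtain ⟨g, hg⟩ : ∃ g : Module.End F (Fin 6 → F), g = f - c • 1 := ⟨_, rfl⟩
  have hgz : ∀ x, g x = 0 ↔ f x = c • x := fun x => by simp [hg, sub_eq_zero]
  have hkill : ∀ u, hB hF 6 u u = 0 → u ≠ 0 → f u = c • u → ∀ x, hB hF 6 u x = 0 → g x = 0 :=
    fun u hu hu0 hcu x hx => Linear.span_iso hK hS hB' h5 u g
      (fun r hr hr0 hur => (hgz r).2 (key u r hu hr hur hu0 hr0 hcu)) hx
  obtain ⟨y, hy, hy'⟩ := exists_dual hF hind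
  refine ⟨c, fun x => (hgz x).1 ?_⟩
  have e : x = (x - hB hF 6 p x • y) + hB hF 6 p x • y := (sub_add_cancel _ _).symm
  rw [e, map_add, map_smul, hkill p hp hp0 hc _ (by simp [hy]), hkill p' hp' hp0' hc' y hy', smul_zero,
    add_zero]

end Cfsg.Lib.Fischer.Relations
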