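import Cfsg.Agent.Lib.Fischer.Relations.Involutions.Main
import Cfsg.Agent.Lib.Fischer.Relations.Twenty.Order
import Cfsg.Agent.Lib.Fischer.Relations.M23

/-!
# Involutions in type M(23)

The class has odd size, so an involution centralizes a member `d`; its image in the type M(22) quotient lifts to
a short product, and the second triple of a hexad absorbs a factor `d`.
-/

set_option autoImplicit false
set_option linter.unusedSectionVars false

namespace Cfsg.Lib.Fischer.Relations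

open Cfsg Cfsg.Lib.Fischer Cfsg.Lib.Linear.Herm

variable {G : Type*} [Group G] [Finite G] {D : Set G} {d : G}

/-- In type M(22) every element of square one is a short product. -/
theorem Coord.exists_isProd {F : Type} [Field F] [Fintype F] {hF : Fintype.card F = 2 ^ 2} (C : Coord D d hF)
    (hG : Nat.card G = 2 ^ 17 * 3 ^ 9 * 5 ^ 2 * 7 * 11 * 13) (hDc : D.ncard = 3510) {x : G} (hx : x * x = 1) :
    ∃ m, m ≤ 3 ∧ IsProd D m x := by
  by_cases h1 : x = 1
  · exact ⟨0, Nat.zero_le _, [], List.nodup_nil, rfl, by simp, by simp, by simp [h1]⟩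
  obtain ⟨g, hg⟩ := C.exists_conj_commute hG hDc (orderOf_eq_prime (by rwa [pow_two]) h1)
  obtain ⟨m, hm, hy⟩ := C.involution_isProd hg (by
    calc g * x * g⁻¹ * (g * x * g⁻¹) = g * (x * x) * g⁻¹ := by group
      _ = 1 := by rw [hx, mul_one, mul_inv_cancel])
  exact ⟨m, hm, by simpa [mul_assoc] using hy.conj C.trans g⁻¹⟩

/-- A member fixed by an element of square one, when the class has odd size. -/
theorem exists_fixed_member (hT : Trans D) (hodd : ¬ 2 ∣ D.ncard) {x : G} (hx : x * x = 1) :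
    ∃ a ∈ D, Commute x a := by
  have : Fact (Nat.Prime 2) := ⟨Nat.prime_two⟩
  let : MulAction ↥(Subgroup.zpowers x) ↥D :=
    { smul := fun k y => ⟨(k : G) * y * (k : G)⁻¹, hT.conj k y y.2⟩
      one_smul := fun y => Subtype.ext (show (1 : G) * y * (1 : G)⁻¹ = y by simp)
      mul_smul := fun g h y => Subtype.ext
        (show (g : G) * h * y * ((g : G) * h)⁻¹ = g * (h * y * (h : G)⁻¹) * (g : G)⁻¹ by group) }
  have hp : IsPGroup 2 ↥(Subgroup.zpowers x) := by
    rcases eq_or_ne x 1 with rfl | h1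
    · exact IsPGroup.of_card (n := 0) (by simp)
    · exact IsPGroup.of_card (n := 1) (by rw [Nat.card_zpowers, orderOf_eq_prime (by rwa [pow_two]) h1, pow_one])
  obtain ⟨a, ha⟩ := hp.nonempty_fixed_point_of_prime_not_dvd_card ↥D (by rwa [Nat.card_coe_set_eq])
  refine ⟨a, a.2, mul_inv_eq_iff_eq_mul.1 ?_⟩
  exact congrArg Subtype.val (ha ⟨x, Subgroup.mem_zpowers x⟩)

namespace M23Data

variable (K : M23Data D d)
include K

/-- Commuting lists of the quotient class lift. -/
theorem lift_list : ∀ (L : List (↥(Subgroup.closure (perp D d)) ⧸ Subgroup.center ↥(Subgroup.closure (perp D d)))),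
    L.Nodup → (∀ q ∈ L, q ∈ image (perp D d)) → (∀ q ∈ L, ∀ r ∈ L, Commute q r) →
    ∃ l : List G, l.length = L.length ∧ l.Nodup ∧ (∀ a ∈ l, a ∈ perp D d) ∧ (∀ a ∈ l, ∀ b ∈ l, Commute a b) ∧
      (∀ a ∈ l, ∀ ha : a ∈ perp D d, bar ha ∈ L) ∧ (∀ q ∈ L, ∃ a ∈ l, ∃ ha : a ∈ perp D d, bar ha = q) ∧
      ∃ hP : l.prod ∈ Subgroup.closure (perp D d), pmk hP = L.prod
  | [], _, _, _ => ⟨[], rfl, List.nodup_nil, by simp, by simp, by simp, by simp, one_mem _, rfl⟩
  | q :: L, hnd, hl, hc => by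
    rw [List.nodup_cons] at hnd
    obtain ⟨l, h1, h2, h3, h4, h5, h6, hP, h7⟩ := lift_list L hnd.2 (fun r hr => hl r (by simp [hr]))
      fun r hr s hs => hc r (by simp [hr]) s (by simp [hs])
    obtain ⟨a, ha, rfl⟩ := exists_bar (hl q (by simp))
    have hsub : ∀ x ∈ perp D d, x ∈ D := fun x hx => hx.1
    have hcm : ∀ b ∈ l, Commute a b := fun b hb =>
      (bar_commute K.trans hsub ha (h3 b hb)).1 (hc _ (by simp) _ (by simp [h5 b hb (h3 b hb)]))
    refine ⟨a :: l, by simp [h1], List.nodup_cons.2 ⟨fun h => hnd.1 (h5 a h ha), h2⟩, ?_, ?_, ?_, ?_,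
      by rw [List.prod_cons]; exact mul_mem (Subgroup.subset_closure ha) hP, ?_⟩
    · intro b hb
      rcases List.mem_cons.1 hb with rfl | hb
      exacts [ha, h3 b hb]
    · intro b hb c hc'
      rcases List.mem_cons.1 hb with eb | hb <;> rcases List.mem_cons.1 hc' with ec | hc'
      · rw [eb, ec]
      · rw [eb]; exact hcm c hc'
      · rw [ec]; exact (hcm b hb).symm
      · exact h4 b hb c hc'
    · intro b hb hb'
      rcases List.mem_cons.1 hb with rfl | hb
      exacts [List.mem_cons_self .., List.mem_cons_of_mem _ (h5 b hb hb')]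
    · intro r hr
      rcases List.mem_cons.1 hr with rfl | hr
      · exact ⟨a, List.mem_cons_self .., ha, rfl⟩
      · obtain ⟨b, hb, hb', e⟩ := h6 r hr
        exact ⟨b, List.mem_cons_of_mem _ hb, hb', e⟩
    · refine Eq.trans ?_ ((congrArg (bar ha * ·) h7).trans List.prod_cons.symm)
      exact congrArg QuotientGroup.mk (Subtype.ext List.prod_cons)

/-- Ordered pairs of commuting neighbours form one orbit under the neighbourhood group. -/
theorem pair_transitive {b c b' c' : G} (hb : b ∈ perp D d) (hc : c ∈ perp D d) (hcb : c ∈ perp D b)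
    (hb' : b' ∈ perp D d) (hc' : c' ∈ perp D d) (hcb' : c' ∈ perp D b') :
    ∃ g : G, g * d * g⁻¹ = d ∧ g * b * g⁻¹ = b' ∧ g * c * g⁻¹ = c' := by
  have hsub : ∀ x ∈ perp D d, x ∈ D := fun x hx => hx.1
  have hp : ∀ {x y : G} (hx : x ∈ perp D d) (hy : y ∈ perp D d), y ∈ perp D x →
      bar hy ∈ perp (image (perp D d)) (bar hx) := fun {x y} hx hy h =>
    ⟨bar_mem hy, fun e => h.2.1 (bar_inj K.trans hsub K.nc hy hx e), (bar_commute K.trans hsub hx hy).2 h.2.2⟩
  obtain ⟨q, hq⟩ := K.imgTrans.trans _ (bar_mem hb) _ (bar_mem hb')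
  have h1 := (mem_perp_conj K.imgTrans q (bar hb) (q * bar hc * q⁻¹)).2 (by simpa [mul_assoc] using hp hb hc hcb)
  rw [hq] at h1
  obtain ⟨r, hr, er⟩ := perp_transitive K.imgFis (bar_mem hb') h1 (hp hb' hc' hcb')
  have hrb : r * bar hb' * r⁻¹ = bar hb' := by
    rw [(commute_of_mem_closure K.imgFis (bar_mem hb')
      (Subgroup.closure_mono (Set.subset_insert _ _) hr)).eq, mul_inv_cancel_right]
  obtain ⟨⟨k, hk⟩, hkq⟩ := QuotientGroup.mk_surjective (r * q)
  have hkd := K.commute_of_mem hk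
  have hkm : ∀ {x : G}, x ∈ perp D d → k * x * k⁻¹ ∈ perp D d := fun {x} hx => by
    have h := (mem_perp_conj K.trans k d (k * x * k⁻¹)).2 (by simpa [mul_assoc] using hx)
    rwa [show k * d * k⁻¹ = d by rw [hkd.eq, mul_inv_cancel_right]] at h
  have hbar : ∀ {x : G} (hx : x ∈ perp D d), bar (hkm hx) = r * (q * bar hx * q⁻¹) * r⁻¹ := fun {x} hx => by
    rw [show r * (q * bar hx * q⁻¹) * r⁻¹ = r * q * bar hx * (r * q)⁻¹ by group, ← hkq]
    rfl
  exact ⟨k, by rw [hkd.eq, mul_inv_cancel_right],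
    bar_inj K.trans hsub K.nc (hkm hb) hb' (by rw [hbar hb, hq, hrb]),
    bar_inj K.trans hsub K.nc (hkm hc) hc' (by rw [hbar hc, er])⟩

end M23Data

namespace Coord23

variable {F : Type} [Field F] [Fintype F] {hF : Fintype.card F = 2 ^ 2} {b : G} (C : Coord23 D d b hF)
include C

/-- An element of square one centralizing `d` is a short product. -/
theorem involution_isProd (h6 : NoRel D 6) {x : G} (hxd : Commute x d) (hx : x * x = 1) :
    ∃ m, m ≤ 3 ∧ IsProd D m x := by
  have hT := C.data.trans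
  have hxH : x ∈ Subgroup.closure (perp D d) := by
    rw [C.centralizer_eq]
    exact Subgroup.mem_centralizer_singleton_iff.2 hxd
  obtain ⟨hDc, hG, -⟩ := m22_order C.data.imgTrans C.data.imgPrim C.data.img
  have hxx : pmk hxH * pmk hxH = 1 :=
    (congrArg QuotientGroup.mk (Subtype.ext hx :
      (⟨x, hxH⟩ * ⟨x, hxH⟩ : ↥(Subgroup.closure (perp D d))) = 1) : _)
  obtain ⟨m, hm, L, hn, hlen, hl, hc, hp⟩ := C.co.exists_isProd hG hDc hxx
  obtain ⟨l, l1, l2, l3, l4, l5, -, hP, l7⟩ := C.data.lift_list L hn hl hc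
  have hlD : ∀ a ∈ l, a ∈ D := fun a ha => (l3 a ha).1
  rcases C.data.eq_of_mk hP hxH (l7.trans hp) with e | e
  · exact ⟨m, hm, l, l2, l1.trans hlen, hlD, l4, e.symm⟩
  by_cases hm2 : m ≤ 2
  · refine ⟨m + 1, by omega, d :: l, List.nodup_cons.2 ⟨fun h => (l3 d h).2.1 rfl, l2⟩, by simp [l1, hlen], ?_,
      ?_, by rw [List.prod_cons, e, (C.data.commute_of_mem hP).eq]⟩
    · intro a ha
      rcases List.mem_cons.1 ha with rfl | ha
      exacts [C.data.mem, hlD a ha]
    · intro a ha a' ha'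
      rcases List.mem_cons.1 ha with ea | ha <;> rcases List.mem_cons.1 ha' with ea' | ha'
      · rw [ea, ea']
      · rw [ea]; exact (l3 a' ha').2.2
      · rw [ea']; exact (l3 a ha).2.2.symm
      · exact l4 a ha a' ha'
  obtain ⟨q₁, q₂, q₃, rfl⟩ := List.length_eq_three.1 (show L.length = 3 by omega)
  obtain ⟨e', f', g', ⟨n', s', c', p'⟩, hnot, -⟩ :=
    three_exactly_two C.co.trans C.co.prim C.co.cen C.co.sep C.co.nbr hn hl hc
  obtain ⟨l', k1, k2, k3, k4, -, k6, hP', k7⟩ := C.data.lift_list [e', f', g'] n' s' c'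
  have hl'D : ∀ a ∈ l', a ∈ D := fun a ha => (k3 a ha).1
  rcases C.data.eq_of_mk hP hP' ((l7.trans p'.symm).trans k7.symm) with e2 | e2
  · exfalso
    have hiff := mem_iff_of_prod_eq hT h6 k2 l2 hl'D hlD k4 l4 (by simp [k1]) (by simp [k1, l1]) e2
    obtain ⟨a, ha, ha', ea⟩ := k6 e' (by simp)
    exact hnot (ea ▸ l5 a ((hiff a).1 ha) ha')
  · exact ⟨3, le_rfl, l', k2, by simp [k1], hl'D, k4, e2.trans e.symm⟩

end Coord23

end Cfsg.Lib.Fischer.Relations
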